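import Mathlib
import Cfsg.Agent.Lib.Helper7.Small2

/-!
# Counting tools for the exclusion of orders of simple groups

* `card_le_mul_card_image`: a map on a subgroup `K` whose fibres lie in cosets of `A` takes at least
  `|K| / |A|` values.
* conjugation of subgroups, `MulAut.conj g • D`, and normalizers.
-/

set_option autoImplicit false

namespace Cfsg.Agent.Lib.Helper5.Ord

open scoped Pointwise

variable {G : Type*} [Group G]

/-- a map on `K` whose fibres lie in left cosets of `A` has at least `|K| / |A|` values -/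
theorem card_le_mul_card_image [Finite G] {β : Type*} (K A : Subgroup G) (f : G → β)
    (hfib : ∀ x ∈ K, ∀ y ∈ K, f x = f y → x⁻¹ * y ∈ A) :
    Nat.card K ≤ Nat.card A * Nat.card ↥(f '' (K : Set G)) := by
  classical
  have hfin : (f '' (K : Set G)).Finite := (Set.toFinite _).image f
  haveI : Finite ↥(f '' (K : Set G)) := hfin.to_subtype
  -- representatives
  have hrep : ∀ b : ↥(f '' (K : Set G)), ∃ r : G, r ∈ K ∧ f r = b.1 := by
    rintro ⟨b, r, hr, rfl⟩
    exact ⟨r, hr, rfl⟩
  choose r hrK hrf using hrep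
  let φ : K → A × ↥(f '' (K : Set G)) := fun x =>
    (⟨(r ⟨f x.1, x.1, x.2, rfl⟩)⁻¹ * x.1,
      hfib _ (hrK _) _ x.2 (hrf _)⟩, ⟨f x.1, x.1, x.2, rfl⟩)
  have hφ : Function.Injective φ := by
    intro x y hxy
    have h2 : f x.1 = f y.1 := by
      have := congrArg (fun z => (z.2 : β)) hxy
      exact this
    have h1 := congrArg (fun z => ((z.1 : A) : G)) hxy
    simp only [φ] at h1
    have hb : (⟨f x.1, x.1, x.2, rfl⟩ : ↥(f '' (K : Set G))) = ⟨f y.1, y.1, y.2, rfl⟩ :=
      Subtype.ext h2
    rw [hb] at h1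
    exact Subtype.ext (mul_left_cancel h1)
  have := Nat.card_le_card_of_injective φ hφ
  rwa [Nat.card_prod] at this

/-- `g` normalizes `D` iff conjugation by `g` fixes `D` -/
theorem mem_normalizer_iff_conj_smul_eq {D : Subgroup G} {g : G} :
    g ∈ Subgroup.normalizer (D : Set G) ↔ MulAut.conj g • D = D := by
  rw [Subgroup.mem_normalizer_iff_map_conj_eq]
  rfl

theorem mem_conj_smul_iff {D : Subgroup G} {g x : G} :
    x ∈ MulAut.conj g • D ↔ g⁻¹ * x * g ∈ D := by
  rw [Subgroup.mem_pointwise_smul_iff_inv_smul_mem]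
  simp [MulAut.smul_def, MulAut.conj_inv_apply]

theorem conj_smul_mono {D E : Subgroup G} (h : D ≤ E) (g : G) :
    MulAut.conj g • D ≤ MulAut.conj g • E := by
  intro x hx
  rw [mem_conj_smul_iff] at hx ⊢
  exact h hx

theorem card_conj_smul [Finite G] (D : Subgroup G) (g : G) :
    Nat.card ↥(MulAut.conj g • D) = Nat.card D := by
  rw [Subgroup.pointwise_smul_def]
  exact Subgroup.card_map_of_injective (MulAut.conj g).injective

theorem conj_smul_eq_of_eq {D : Subgroup G} {x y : G}
    (h : MulAut.conj x • D = MulAut.conj y • D) : MulAut.conj (x⁻¹ * y) • D = D := by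
  rw [map_mul, mul_smul, ← h, ← mul_smul, ← map_mul, inv_mul_cancel, map_one, one_smul]

end Cfsg.Agent.Lib.Helper5.Ord
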