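import Mathlib
import Cfsg.Agent.Lib.Helper7.Small2

/-!
# There is no simple group of order 4760

`4760 = 2^3 * 5 * 7 * 17`. There are 35 Sylow 17-subgroups, `|N(P)| = 136`. If `|C(P)|` is even, an
involution of `C(P)` fixes `f` Sylow 17-subgroups with `f ≡ 1 (mod 17)`, `f ≡ 35 (mod 4)`, `f < 35`,
which is impossible. Otherwise `|C(P)| = 17`, an involution `t` of `N(P)` inverts `P` and fixes exactly
3 Sylow 17-subgroups; it has at most 17 conjugates in `N(P)`, 17 does not divide `|C(t)|`, and
`3 * 136 = c * |C(t)|` gives `|C(t)| = 24`, which does not divide 4760.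
-/

set_option autoImplicit false
set_option maxRecDepth 100000

namespace Cfsg.Agent.Lib.Helper5.Ord

open Cfsg.Agent.Lib.Lead Cfsg.Agent.Lib.Lead.SmallSimple Cfsg.Agent.Lib.Lead.SmallSimple2
  Cfsg.Agent.Lib.Lead.SylowCount Cfsg.Agent.Lib.Lead.PrimeDegree
  Cfsg.Agent.Lib.Helper7.CountTools Cfsg.Agent.Lib.Helper7.SylPar Cfsg.Agent.Lib.Helper7.Small

variable {G : Type*} [Group G] [Finite G]

set_option synthInstance.maxSize 4000 in
set_option synthInstance.maxHeartbeats 400000 in
theorem false_of_card_4760 [IsSimpleGroup G] (hG : Nat.card G = 4760) : False := by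
  have hna : ¬ IsMulCommutative G :=
    not_comm_of_even ⟨2380, by rw [hG]⟩ (by rw [hG]; norm_num)
  have hp17 : Nat.Prime 17 := by norm_num
  have : Fact (Nat.Prime 17) := ⟨hp17⟩
  obtain ⟨d, hd_mem, k, hk_mem, hmod, hne1', hfac, hk, hk1, hd, hc, hC, hN, hpm⟩ :=
    data_p1 hna (p := 17) hp17 hG (by norm_num) (by norm_num)
  have key : ∀ d ∈ Nat.divisors 4760, ∀ k ∈ Nat.divisors (4760 / (d * 17)), d % 17 = 1 → d ≠ 1 →
      k ∣ 17 - 1 → k ≠ 1 → d = 35 ∧ (k = 2 ∨ k = 4 ∨ k = 8) := by decide +kernel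
  obtain ⟨rfl, hk3⟩ := key d hd_mem k hk_mem hmod hne1' hk hk1
  have hne1 : Nat.card (Sylow 17 G) ≠ 1 := by rw [hd]; norm_num
  obtain ⟨P⟩ : Nonempty (Sylow 17 G) := inferInstance
  -- an involution centralizing `P` is impossible
  have heven : ¬ 2 ∣ Nat.card (Subgroup.centralizer ((P : Subgroup G) : Set G)) := by
    intro h2
    obtain ⟨v, hvC, hv2, hv1⟩ := exists_involution _ h2
    have hf1 := fix_modEq_one P (v := v) (Subgroup.mem_centralizer_iff.mp hvC)
    have hf2 := fix_modEq_four hna (α := Sylow 17 G) v hv2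
    have hf3 := fix_lt 17 hne1 hv1
    rw [hd] at hf2 hf3
    unfold Nat.ModEq at hf1 hf2
    omega
  rcases hk3 with rfl | rfl | rfl
  · apply heven
    rw [hC P]; norm_num
  · apply heven
    rw [hC P]; norm_num
  · have hCcard : Nat.card (Subgroup.centralizer ((P : Subgroup G) : Set G)) = 17 := by
      rw [hC P]
    have hNcard : Nat.card (Subgroup.normalizer ((P : Subgroup G) : Set G)) = 136 := by
      rw [hN P]
    have hNeven : 2 ∣ Nat.card (Subgroup.normalizer ((P : Subgroup G) : Set G)) := by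
      rw [hNcard]; norm_num
    obtain ⟨t, htN, ht2, ht1⟩ := exists_involution _ hNeven
    have hCodd : ∀ Q : Sylow 17 G,
        Odd (Nat.card (Subgroup.centralizer ((Q : Subgroup G) : Set G))) := by
      intro Q
      rw [hC Q]; decide
    have htC : t ∉ Subgroup.centralizer ((P : Subgroup G) : Set G) :=
      fun h => ht1 (eq_one_of_sq_of_odd (hCodd P) ht2 h)
    have hb := fix_bound P (hc P) htN htC
    have hf2 := fix_modEq_four hna (α := Sylow 17 G) t ht2
    rw [hd] at hb hf2
    have hfix3 : Nat.card (MulAction.fixedBy (Sylow 17 G) t) = 3 := by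
      unfold Nat.ModEq at hf2
      omega
    have hform : Nat.card (MulAction.fixedBy (Sylow 17 G) t) *
        Nat.card (Subgroup.normalizer ((P : Subgroup G) : Set G)) =
        Nat.card {g : G // IsConj t g ∧
          g ∈ Subgroup.normalizer ((P : Subgroup G) : Set G)} *
          Nat.card (Subgroup.centralizer ({t} : Set G)) := by
      have h0 := fix_formula (α := Sylow 17 G) P t
      rw [Sylow.stabilizer_eq_normalizer] at h0
      exact h0
    rw [hfix3, hNcard] at hform
    have hle := card_conj_le_of_inverts P (hc P) ht2 ht1 htN (hCodd P)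
    rw [hCcard] at hle
    have hnd := not_dvd_card_centralizer_involution hc hCodd ht2 ht1
    have hc_mem : Nat.card (Subgroup.centralizer ({t} : Set G)) ∈ Nat.divisors 4760 := by
      refine Nat.mem_divisors.mpr ⟨?_, by norm_num⟩
      rw [← hG]; exact Subgroup.card_subgroup_dvd_card _
    have hfin : ∀ x ∈ Nat.divisors 4760, ∀ c ≤ 17, 3 * 136 = c * x → 17 ∣ x := by
      decide +kernel
    exact hnd (hfin _ hc_mem _ hle hform)

end Cfsg.Agent.Lib.Helper5.Ord
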