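import Mathlib
import Cfsg.Agent.Lib.Helper7.Small2
import Cfsg.Agent.Lib.Helper5.Ord.Tools

/-!
# There is no simple group of order 5880

`5880 = 2^3 * 3 * 5 * 7^2`. The number of Sylow 7-subgroups is 15 (120 is excluded by Burnside's
transfer theorem), two of them meet in a subgroup `D` of order 7 whose normalizer `M` has order 392 and
contains exactly 8 Sylow 7-subgroups, so that `N(P) ∩ N(D) = P`. Hence `D` has 8 conjugates under
`N(P)` inside `P`, each contained in 7 Sylow 7-subgroups other than `P`, and no Sylow 7-subgroup other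
than `P` contains two of them: there are at least 57 Sylow 7-subgroups.
-/

set_option autoImplicit false

namespace Cfsg.Agent.Lib.Helper5.Ord

open Cfsg.Agent.Lib.Lead Cfsg.Agent.Lib.Lead.SmallSimple Cfsg.Agent.Lib.Lead.SmallSimple2
  Cfsg.Agent.Lib.Lead.SylowCount Cfsg.Agent.Lib.Lead.PrimeDegree
  Cfsg.Agent.Lib.Helper7.Small
open scoped Pointwise

variable {G : Type*} [Group G] [Finite G]

/-- the number of Sylow subgroups containing a subgroup `D` normalized by `M`, bounded below by the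
length of the `M`-orbit of a Sylow subgroup `P ≥ D` -/
theorem card_le_mul_ncard_sylow_ge {p : ℕ} [Fact p.Prime] (P : Sylow p G) (D M : Subgroup G)
    (hDP : D ≤ (P : Subgroup G)) (hM : M ≤ Subgroup.normalizer (D : Set G)) :
    Nat.card M ≤ Nat.card ↥(Subgroup.normalizer ((P : Subgroup G) : Set G) ⊓ M) *
      Set.ncard {S : Sylow p G | D ≤ (S : Subgroup G)} := by
  classical
  have h1 := card_le_mul_card_image M (Subgroup.normalizer ((P : Subgroup G) : Set G) ⊓ M)
    (fun m : G => m • P) (by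
      intro x hx y hy hxy
      refine ⟨Sylow.smul_eq_iff_mem_normalizer.mp ?_, M.mul_mem (M.inv_mem hx) hy⟩
      have hxy' : x • P = y • P := hxy
      rw [mul_smul, ← hxy', inv_smul_smul])
  refine h1.trans (Nat.mul_le_mul_left _ ?_)
  rw [Nat.card_coe_set_eq]
  apply Set.ncard_le_ncard _ (Set.toFinite _)
  rintro S ⟨m, hm, rfl⟩
  show D ≤ ((m • P : Sylow p G) : Subgroup G)
  rw [Sylow.coe_subgroup_smul]
  have hmD : MulAut.conj m • D = D := mem_normalizer_iff_conj_smul_eq.mp (hM hm)
  calc D = MulAut.conj m • D := hmD.symm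
    _ ≤ MulAut.conj m • (P : Subgroup G) := conj_smul_mono hDP m

theorem false_of_card_5880 [IsSimpleGroup G] (hG : Nat.card G = 5880) : False := by
  classical
  have hna : ¬ IsMulCommutative G :=
    not_comm_of_even ⟨2940, by rw [hG]⟩ (by rw [hG]; norm_num)
  have hp7 : Nat.Prime 7 := by norm_num
  haveI : Fact (Nat.Prime 7) := ⟨hp7⟩
  have hG' : Nat.card G = 7 ^ 2 * 120 := by rw [hG]; norm_num
  obtain ⟨h1, h2, h3, h4⟩ := sylow_data (p := 7) (q := 2) hna hG (by norm_num) (by norm_num)
    (by norm_num) (by norm_num)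
  have hcases : ∀ d ∈ Nat.divisors 5880, d % 7 = 1 → d ≠ 1 → 2 * 5880 ∣ d.factorial →
      d = 15 ∨ d = 120 := by decide +kernel
  have hn7 := hcases _ h1 h2 h3 h4
  have hcardSyl : ∀ P : Sylow 7 G, Nat.card (P : Subgroup G) = 7 ^ 2 := fun P =>
    card_sylow_of_card_eq_pow 7 2 120 hG' (by norm_num) P
  have hcommP : ∀ P : Sylow 7 G, ∀ a ∈ (P : Subgroup G), ∀ b ∈ (P : Subgroup G), a * b = b * a := by
    intro P a ha b hb
    have h5 := IsPGroup.commutative_of_card_eq_prime_sq (p := 7) (G := ↥(P : Subgroup G))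
      (hcardSyl P) ⟨a, ha⟩ ⟨b, hb⟩
    exact congrArg Subtype.val h5
  -- the number of Sylow 7-subgroups is 15
  have hn15 : Nat.card (Sylow 7 G) = 15 := by
    rcases hn7 with h | h
    · exact h
    · exfalso
      obtain ⟨P⟩ : Nonempty (Sylow 7 G) := inferInstance
      have hN : Nat.card (Sylow 7 G) *
          Nat.card (Subgroup.normalizer ((P : Subgroup G) : Set G)) = Nat.card G :=
        card_sylow_mul_card_normalizer 7 P
      rw [h, hG] at hN
      have hN49 : Nat.card (Subgroup.normalizer ((P : Subgroup G) : Set G)) = 49 := by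
        clear h4 hcases; omega
      have hPle : (P : Subgroup G) ≤ Subgroup.normalizer ((P : Subgroup G) : Set G) :=
        Subgroup.le_normalizer
      have hEq : (P : Subgroup G) = Subgroup.normalizer ((P : Subgroup G) : Set G) :=
        Subgroup.eq_of_le_of_card_ge hPle (by rw [hN49, hcardSyl P]; norm_num)
      have hle : Subgroup.normalizer ((P : Subgroup G) : Set G) ≤
          Subgroup.centralizer ((P : Subgroup G) : Set G) := by
        rw [← hEq]
        intro x hx
        rw [Subgroup.mem_centralizer_iff]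
        intro y hy
        exact hcommP P y hy x hx
      rcases burnside_simple P hle with h5 | h5
      · rw [hG, hcardSyl P] at h5; norm_num at h5
      · rw [hcardSyl P] at h5; norm_num at h5
  have hcardN : ∀ P : Sylow 7 G,
      Nat.card (Subgroup.normalizer ((P : Subgroup G) : Set G)) = 392 := by
    intro P
    have hN : Nat.card (Sylow 7 G) *
        Nat.card (Subgroup.normalizer ((P : Subgroup G) : Set G)) = Nat.card G :=
      card_sylow_mul_card_normalizer 7 P
    rw [hn15, hG] at hN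
    clear h4 hcases
    omega
  -- two Sylow 7-subgroups meeting in a subgroup of order 7
  have hnp : ¬ Nat.card (Sylow 7 G) ≡ 1 [MOD 7 ^ 2] := by
    rw [hn15]; decide
  obtain ⟨D, P, R, hPR, hD, hDcard, hPM, hRM⟩ :=
    big_inter hp7 hG' (by norm_num) (by norm_num) hnp
  have hDcard7 : Nat.card D = 7 := by omega
  have hDleP : D ≤ (P : Subgroup G) := by rw [hD]; exact inf_le_left
  have hDleR : D ≤ (R : Subgroup G) := by rw [hD]; exact inf_le_right
  obtain ⟨M, hMdef⟩ : ∃ M : Subgroup G, M = Subgroup.normalizer (D : Set G) := ⟨_, rfl⟩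
  rw [← hMdef] at hPM hRM
  have hMtop : M ≠ ⊤ := by
    intro h5
    rw [hMdef] at h5
    have hnor : D.Normal := Subgroup.normalizer_eq_top_iff.mp h5
    rcases hnor.eq_bot_or_eq_top with e | e
    · rw [e, Subgroup.card_bot] at hDcard7
      norm_num at hDcard7
    · have h6 : Nat.card D = Nat.card G := by rw [e, Subgroup.card_top]
      rw [hDcard7, hG] at h6
      norm_num at h6
  have hfact := two_mul_card_dvd_factorial_index hna M hMtop
  rw [hG] at hfact
  -- Sylow 7-subgroups of `M`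
  have hpa : 7 ^ 2 ∣ Nat.card M := by
    have := Subgroup.card_dvd_of_le hPM
    rwa [hcardSyl P] at this
  obtain ⟨j, hj⟩ := hpa
  have hjpos : 0 < j := by
    rcases Nat.eq_zero_or_pos j with h0 | h0
    · rw [h0, mul_zero] at hj
      exact absurd hj Nat.card_pos.ne'
    · exact h0
  have hPMcard : Nat.card ((P.subtype hPM : Sylow 7 M) : Subgroup M) = 7 ^ 2 := by
    rw [Sylow.coe_subtype]
    exact (Nat.card_congr (Subgroup.subgroupOfEquivOfLe hPM).toEquiv).trans (hcardSyl P)
  have he_dvd : Nat.card (Sylow 7 M) ∣ j :=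
    card_sylow_dvd_of_card (P.subtype hPM) hPMcard hj (by norm_num)
  have he_mod : Nat.card (Sylow 7 M) % 7 = 1 := by
    have hmod := card_sylow_modEq_one 7 M
    unfold Nat.ModEq at hmod; rw [hmod]
  have he_ne : Nat.card (Sylow 7 M) ≠ 1 := by
    intro h5
    haveI : Subsingleton (Sylow 7 M) := (Nat.card_eq_one_iff_unique.mp h5).1
    have e : P.subtype hPM = R.subtype hRM := Subsingleton.elim _ _
    exact hPR (Sylow.subtype_injective e)
  have hMk := Subgroup.card_mul_index M
  rw [hj, hG] at hMk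
  have hjr : j * M.index = 120 := by
    have h5 : 7 ^ 2 * (j * M.index) = 7 ^ 2 * 120 := by rw [← mul_assoc, hMk]; norm_num
    exact Nat.eq_of_mul_eq_mul_left (by norm_num) h5
  have hj_mem : j ∈ Nat.divisors 120 := Nat.mem_divisors.mpr ⟨Dvd.intro _ hjr, by norm_num⟩
  have he_mem : Nat.card (Sylow 7 M) ∈ Nat.divisors j :=
    Nat.mem_divisors.mpr ⟨he_dvd, hjpos.ne'⟩
  have hidxM : M.index = 120 / j := by
    rw [← hjr]; exact (Nat.mul_div_cancel_left _ hjpos).symm
  rw [hidxM] at hfact
  have hsel : ∀ j ∈ Nat.divisors 120, ∀ e ∈ Nat.divisors j, e % 7 = 1 → e ≠ 1 →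
      2 * 5880 ∣ (120 / j).factorial → j = 8 ∧ e = 8 := by decide +kernel
  obtain ⟨hj8, he8⟩ := hsel j hj_mem _ he_mem he_mod he_ne hfact
  have hMcard : Nat.card M = 392 := by rw [hj, hj8]; norm_num
  -- `N(P) ∩ M = P`
  have hNM : Nat.card ↥(Subgroup.normalizer ((P : Subgroup G) : Set G) ⊓ M) = 49 := by
    have h5 : Nat.card (Sylow 7 M) * Nat.card (Subgroup.normalizer
        (((P.subtype hPM : Sylow 7 M) : Subgroup M) : Set M)) = Nat.card M :=
      card_sylow_mul_card_normalizer 7 (P.subtype hPM)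
    rw [he8, hMcard] at h5
    have h6 : Nat.card (Subgroup.normalizer
        (((P.subtype hPM : Sylow 7 M) : Subgroup M) : Set M)) = 49 := by
      clear hfact h4 hcases hsel; omega
    rw [Sylow.coe_subtype, ← Subgroup.subgroupOf_normalizer_eq hPM,
      ← Subgroup.inf_subgroupOf_right] at h6
    rw [← h6]
    exact (Nat.card_congr (Subgroup.subgroupOfEquivOfLe inf_le_right).toEquiv).symm
  have hNMeq : Subgroup.normalizer ((P : Subgroup G) : Set G) ⊓ M = (P : Subgroup G) := by
    symm
    apply Subgroup.eq_of_le_of_card_ge (le_inf Subgroup.le_normalizer hPM)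
    rw [hNM, hcardSyl P]; norm_num
  -- at least 8 Sylow 7-subgroups contain `D`
  have h8 : 8 ≤ Set.ncard {S : Sylow 7 G | D ≤ (S : Subgroup G)} := by
    have h5 := card_le_mul_ncard_sylow_ge P D M hDleP (by rw [hMdef])
    rw [hMcard, hNM] at h5
    omega
  -- hence at least 7 of them besides `P`
  have h7 : ∀ n ∈ Subgroup.normalizer ((P : Subgroup G) : Set G),
      7 ≤ Set.ncard {S : Sylow 7 G | MulAut.conj n • D ≤ (S : Subgroup G) ∧ S ≠ P} := by
    intro n hn
    have hnP : n • P = P := Sylow.smul_eq_iff_mem_normalizer.mpr hn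
    have h5 : 7 ≤ Set.ncard ({S : Sylow 7 G | D ≤ (S : Subgroup G)} \ {P}) := by
      have h6 := Set.ncard_sdiff_singleton_add_one (s := {S : Sylow 7 G | D ≤ (S : Subgroup G)})
        (a := P) hDleP (Set.toFinite _)
      omega
    refine h5.trans ?_
    have h6 : Set.ncard ((fun S : Sylow 7 G => n • S) ''
        ({S : Sylow 7 G | D ≤ (S : Subgroup G)} \ {P})) =
        Set.ncard ({S : Sylow 7 G | D ≤ (S : Subgroup G)} \ {P}) :=
      Set.ncard_image_of_injective _ (MulAction.injective n)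
    rw [← h6]
    apply Set.ncard_le_ncard _ (Set.toFinite _)
    rintro S ⟨S0, ⟨hS0, hS0P⟩, rfl⟩
    refine ⟨?_, ?_⟩
    · show MulAut.conj n • D ≤ ((n • S0 : Sylow 7 G) : Subgroup G)
      rw [Sylow.coe_subgroup_smul]
      exact conj_smul_mono hS0 n
    · intro h9
      apply hS0P
      rw [Set.mem_singleton_iff]
      have h10 : n • S0 = n • P := by rw [hnP]; exact h9
      exact MulAction.injective n h10
  -- the conjugates of `D` under `N(P)`
  have hfibD := card_le_mul_card_image (Subgroup.normalizer ((P : Subgroup G) : Set G))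
    (P : Subgroup G) (fun n : G => MulAut.conj n • D) (by
      intro x hx y hy hxy
      have h5 : MulAut.conj (x⁻¹ * y) • D = D := conj_smul_eq_of_eq hxy
      have h6 : x⁻¹ * y ∈ Subgroup.normalizer ((P : Subgroup G) : Set G) ⊓ M :=
        ⟨Subgroup.mul_mem _ (Subgroup.inv_mem _ hx) hy,
          by rw [hMdef]; exact mem_normalizer_iff_conj_smul_eq.mpr h5⟩
      rw [hNMeq] at h6
      exact h6)
  rw [hcardN P, hcardSyl P, Nat.card_coe_set_eq] at hfibD
  have h3lt : 2 < Set.ncard ((fun n : G => MulAut.conj n • D) ''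
      ((Subgroup.normalizer ((P : Subgroup G) : Set G) : Subgroup G) : Set G)) := by omega
  obtain ⟨D1, D2, D3, hD1, hD2, hD3, h12, h13, h23⟩ :=
    (Set.two_lt_ncard_iff (Set.toFinite _)).mp h3lt
  obtain ⟨n1, hn1, rfl⟩ := hD1
  obtain ⟨n2, hn2, rfl⟩ := hD2
  obtain ⟨n3, hn3, rfl⟩ := hD3
  -- two different conjugates are not contained in a Sylow 7-subgroup other than `P`
  have hdisj : ∀ a ∈ Subgroup.normalizer ((P : Subgroup G) : Set G),
      ∀ b ∈ Subgroup.normalizer ((P : Subgroup G) : Set G),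
      MulAut.conj a • D ≠ MulAut.conj b • D →
      Disjoint {S : Sylow 7 G | MulAut.conj a • D ≤ (S : Subgroup G) ∧ S ≠ P}
        {S : Sylow 7 G | MulAut.conj b • D ≤ (S : Subgroup G) ∧ S ≠ P} := by
    intro a ha b hb hab
    rw [Set.disjoint_left]
    rintro S ⟨hSa, hSP⟩ ⟨hSb, -⟩
    apply hSP
    have haP : MulAut.conj a • D ≤ (P : Subgroup G) := by
      have h5 : MulAut.conj a • (P : Subgroup G) = P := mem_normalizer_iff_conj_smul_eq.mp ha
      calc MulAut.conj a • D ≤ MulAut.conj a • (P : Subgroup G) := conj_smul_mono hDleP a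
        _ = P := h5
    have hbP : MulAut.conj b • D ≤ (P : Subgroup G) := by
      have h5 : MulAut.conj b • (P : Subgroup G) = P := mem_normalizer_iff_conj_smul_eq.mp hb
      calc MulAut.conj b • D ≤ MulAut.conj b • (P : Subgroup G) := conj_smul_mono hDleP b
        _ = P := h5
    -- X = P ⊓ S
    have hXdvd : Nat.card ↥((P : Subgroup G) ⊓ (S : Subgroup G)) ∣ 7 ^ 2 := by
      have := Subgroup.card_dvd_of_le (inf_le_left : (P : Subgroup G) ⊓ (S : Subgroup G) ≤ P)
      rwa [hcardSyl P] at this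
    obtain ⟨k, hk, hkX⟩ := (Nat.dvd_prime_pow hp7).mp hXdvd
    have haX : MulAut.conj a • D ≤ (P : Subgroup G) ⊓ (S : Subgroup G) := le_inf haP hSa
    have hbX : MulAut.conj b • D ≤ (P : Subgroup G) ⊓ (S : Subgroup G) := le_inf hbP hSb
    have hca : Nat.card ↥(MulAut.conj a • D) = 7 := by rw [card_conj_smul, hDcard7]
    have hcb : Nat.card ↥(MulAut.conj b • D) = 7 := by rw [card_conj_smul, hDcard7]
    have hk2 : k = 2 := by
      by_contra hk2
      have hk1 : k ≤ 1 := by omega
      have hXle : Nat.card ↥((P : Subgroup G) ⊓ (S : Subgroup G)) ≤ 7 := by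
        rw [hkX]
        calc 7 ^ k ≤ 7 ^ 1 := Nat.pow_le_pow_right (by norm_num) hk1
          _ = 7 := by norm_num
      have ea := Subgroup.eq_of_le_of_card_ge haX (by rw [hca]; exact hXle)
      have eb := Subgroup.eq_of_le_of_card_ge hbX (by rw [hcb]; exact hXle)
      exact hab (ea.trans eb.symm)
    rw [hk2] at hkX
    have hXP : (P : Subgroup G) ⊓ (S : Subgroup G) = (P : Subgroup G) :=
      Subgroup.eq_of_le_of_card_ge inf_le_left (by rw [hkX, hcardSyl P])
    have hPS : (P : Subgroup G) ≤ (S : Subgroup G) := by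
      rw [← hXP]; exact inf_le_right
    symm
    apply Sylow.ext
    exact Subgroup.eq_of_le_of_card_ge hPS (by rw [hcardSyl P, hcardSyl S])
  -- count
  have hA := h7 n1 hn1
  have hB := h7 n2 hn2
  have hC := h7 n3 hn3
  have hd12 := hdisj n1 hn1 n2 hn2 h12
  have hd13 := hdisj n1 hn1 n3 hn3 h13
  have hd23 := hdisj n2 hn2 n3 hn3 h23
  have hU1 := Set.ncard_union_eq hd12 (Set.toFinite _) (Set.toFinite _)
  have hd123 : Disjoint
      ({S : Sylow 7 G | MulAut.conj n1 • D ≤ (S : Subgroup G) ∧ S ≠ P} ∪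
        {S : Sylow 7 G | MulAut.conj n2 • D ≤ (S : Subgroup G) ∧ S ≠ P})
      {S : Sylow 7 G | MulAut.conj n3 • D ≤ (S : Subgroup G) ∧ S ≠ P} :=
    Set.disjoint_union_left.mpr ⟨hd13, hd23⟩
  have hU2 := Set.ncard_union_eq hd123 (Set.toFinite _) (Set.toFinite _)
  have hle15 : Set.ncard (({S : Sylow 7 G | MulAut.conj n1 • D ≤ (S : Subgroup G) ∧ S ≠ P} ∪
        {S : Sylow 7 G | MulAut.conj n2 • D ≤ (S : Subgroup G) ∧ S ≠ P}) ∪
      {S : Sylow 7 G | MulAut.conj n3 • D ≤ (S : Subgroup G) ∧ S ≠ P}) ≤ 15 := by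
    have h5 := Set.ncard_le_ncard (Set.subset_univ
      (({S : Sylow 7 G | MulAut.conj n1 • D ≤ (S : Subgroup G) ∧ S ≠ P} ∪
        {S : Sylow 7 G | MulAut.conj n2 • D ≤ (S : Subgroup G) ∧ S ≠ P}) ∪
      {S : Sylow 7 G | MulAut.conj n3 • D ≤ (S : Subgroup G) ∧ S ≠ P})) (Set.toFinite _)
    rw [Set.ncard_univ, hn15] at h5
    exact h5
  omega

end Cfsg.Agent.Lib.Helper5.Ord
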