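import Mathlib
import Cfsg.Agent.Lib.Helper7.Small2
import Cfsg.Agent.Lib.Helper5.Ord.Tools

/-!
# More counting tools for the exclusion of orders of simple groups

* `dvd_ncard_of_forall_dvd_card_orbit`: an invariant set whose orbits all have length divisible by
  `m` has cardinality divisible by `m`.
* `card_mul_pred_add_one_le`: subgroups of prime order `q` of a group `P` meet trivially, so there are
  at most `(|P| - 1) / (q - 1)` of them.
* `card_sylow_five_eq_one`: a group of order `150` or `450` has a normal Sylow 5-subgroup.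
-/

set_option autoImplicit false

namespace Cfsg.Agent.Lib.Helper5.Ord

open Cfsg.Agent.Lib.Lead Cfsg.Agent.Lib.Lead.SmallSimple Cfsg.Agent.Lib.Lead.SmallSimple2
  Cfsg.Agent.Lib.Lead.SylowCount Cfsg.Agent.Lib.Lead.PrimeDegree
  Cfsg.Agent.Lib.Helper7.Small
open scoped Pointwise

/-- an invariant set all of whose orbits have length divisible by `m` has cardinality divisible
by `m` -/
theorem dvd_ncard_of_forall_dvd_card_orbit {H X : Type*} [Group H] [MulAction H X] [Finite X]
    (m : ℕ) (Y : Set X) (hinv : ∀ h : H, ∀ y ∈ Y, h • y ∈ Y)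
    (horb : ∀ y ∈ Y, m ∣ Nat.card (MulAction.orbit H y)) : m ∣ Y.ncard := by
  have key : ∀ n : ℕ, ∀ Y : Set X, Y.ncard = n → (∀ h : H, ∀ y ∈ Y, h • y ∈ Y) →
      (∀ y ∈ Y, m ∣ Nat.card (MulAction.orbit H y)) → m ∣ n := by
    intro n
    induction n using Nat.strong_induction_on with
    | _ n ih =>
      intro Y hn hinv horb
      rcases Y.eq_empty_or_nonempty with rfl | ⟨y, hy⟩
      · rw [Set.ncard_empty] at hn
        rw [← hn]
        exact dvd_zero m
      · have hO : MulAction.orbit H y ⊆ Y := by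
          rintro _ ⟨h, rfl⟩
          exact hinv h y hy
        have hsplit := Set.ncard_sdiff_add_ncard_of_subset hO (Set.toFinite Y)
        have hOpos : 0 < (MulAction.orbit H y).ncard := by
          rw [Set.ncard_pos (Set.toFinite _)]
          exact ⟨y, MulAction.mem_orbit_self y⟩
        have hlt : (Y \ MulAction.orbit H y).ncard < n := by omega
        have hinv' : ∀ h : H, ∀ z ∈ Y \ MulAction.orbit H y,
            h • z ∈ Y \ MulAction.orbit H y := by
          rintro h z ⟨hzY, hzO⟩
          refine ⟨hinv h z hzY, fun hmem => hzO ?_⟩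
          have h5 : z ∈ MulAction.orbit H (h • z) := MulAction.mem_orbit_smul h z
          rw [MulAction.orbit_eq_iff.mpr hmem] at h5
          exact h5
        have h1 := ih _ hlt (Y \ MulAction.orbit H y) rfl hinv' (fun z hz => horb z hz.1)
        have h2 : m ∣ (MulAction.orbit H y).ncard := by
          rw [← Nat.card_coe_set_eq]
          exact horb y hy
        rw [← hn, ← hsplit]
        exact dvd_add h1 h2
  exact key _ Y rfl hinv horb

variable {G : Type*} [Group G]

/-- distinct subgroups of prime order `q` meet trivially: a group `P` has at most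
`(|P| - 1) / (q - 1)` of them -/
theorem card_mul_pred_add_one_le [Finite G] (P : Subgroup G) {q : ℕ} (hq : q.Prime)
    (𝓛 : Finset (Subgroup G)) (h : ∀ L ∈ 𝓛, L ≤ P ∧ Nat.card L = q) :
    𝓛.card * (q - 1) + 1 ≤ Nat.card P := by
  classical
  have : Fintype G := Fintype.ofFinite G
  let t : Subgroup G → Finset G := fun L => (Finset.univ.filter (fun g => g ∈ L)).erase 1
  have hcardL : ∀ L : Subgroup G, (Finset.univ.filter (fun g => g ∈ L)).card = Nat.card L := by
    intro L
    rw [Nat.card_eq_fintype_card, Fintype.card_subtype]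
  have ht : ∀ L ∈ 𝓛, (t L).card = q - 1 := by
    intro L hL
    show ((Finset.univ.filter (fun g => g ∈ L)).erase 1).card = q - 1
    rw [Finset.card_erase_of_mem (by simp [L.one_mem]), hcardL, (h L hL).2]
  have hdisj : (↑𝓛 : Set (Subgroup G)).PairwiseDisjoint t := by
    intro L1 hL1 L2 hL2 hne
    rw [Function.onFun, Finset.disjoint_left]
    intro g hg1 hg2
    simp only [t, Finset.mem_erase, Finset.mem_filter, Finset.mem_univ, true_and] at hg1 hg2
    apply hne
    have hI1 : Nat.card ↥(L1 ⊓ L2) ∣ q := by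
      have := Subgroup.card_dvd_of_le (inf_le_left : L1 ⊓ L2 ≤ L1)
      rwa [(h L1 hL1).2] at this
    rcases (Nat.dvd_prime hq).mp hI1 with h1 | h1
    · exfalso
      have h5 := Subgroup.eq_bot_of_card_eq _ h1
      have hg : g ∈ L1 ⊓ L2 := ⟨hg1.2, hg2.2⟩
      rw [h5, Subgroup.mem_bot] at hg
      exact hg1.1 hg
    · have e1 : L1 ⊓ L2 = L1 :=
        Subgroup.eq_of_le_of_card_ge inf_le_left (by rw [h1, (h L1 hL1).2])
      have e2 : L1 ⊓ L2 = L2 :=
        Subgroup.eq_of_le_of_card_ge inf_le_right (by rw [h1, (h L2 hL2).2])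
      exact e1.symm.trans e2
  have hsub : 𝓛.biUnion t ⊆ (Finset.univ.filter (fun g => g ∈ P)).erase 1 := by
    intro g hg
    rw [Finset.mem_biUnion] at hg
    obtain ⟨L, hL, hgL⟩ := hg
    simp only [t, Finset.mem_erase, Finset.mem_filter, Finset.mem_univ, true_and] at hgL ⊢
    exact ⟨hgL.1, (h L hL).1 hgL.2⟩
  have hcard := Finset.card_le_card hsub
  rw [Finset.card_biUnion hdisj, Finset.sum_const_nat ht,
    Finset.card_erase_of_mem (by simp [P.one_mem]), hcardL] at hcard
  have : 0 < Nat.card P := Nat.card_pos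
  omega

/-- a group of order `2 * 25 * r` with `r = 3` or `r = 9` has a normal Sylow 5-subgroup -/
theorem card_sylow_five_eq_one {M : Type*} [Group M] [Finite M] {r : ℕ}
    (hM : Nat.card M = 5 ^ 2 * (2 * r)) (hr : r = 3 ∨ r = 9) : Nat.card (Sylow 5 M) = 1 := by
  classical
  have : Fact (Nat.Prime 5) := ⟨by norm_num⟩
  have : Fact (Nat.Prime 2) := ⟨Nat.prime_two⟩
  have heven : Even (Nat.card M) := by
    rw [hM]; exact ⟨5 ^ 2 * r, by ring⟩
  have h4 : ¬ 4 ∣ Nat.card M := by
    rw [hM]; rcases hr with rfl | rfl <;> decide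
  obtain T : Sylow 2 M := default
  have hT2 := sylow_two_card_two heven h4 T
  have hcyc : IsCyclic (T : Subgroup M) := isCyclic_of_prime_card hT2
  obtain ⟨K, hK⟩ := Cfsg.Agent.S0219.index_two_of_cyclic_sylow heven T hcyc
  have hKn : K.Normal := Subgroup.normal_of_index_eq_two hK
  have hKcard : Nat.card K = 5 ^ 2 * r := by
    have h5 := K.card_mul_index
    rw [hK, hM] at h5
    norm_num at h5 ⊢
    omega
  obtain Q : Sylow 5 K := default
  have hr5 : ¬ 5 ∣ r := by rcases hr with rfl | rfl <;> decide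
  have hQcard : Nat.card (Q : Subgroup K) = 5 ^ 2 :=
    card_sylow_of_card_eq_pow 5 2 r hKcard hr5 Q
  have hdvd : Nat.card (Sylow 5 K) ∣ r := card_sylow_dvd_of_card Q hQcard hKcard (by norm_num)
  have hmod : Nat.card (Sylow 5 K) % 5 = 1 := by
    have hmod := card_sylow_modEq_one 5 K
    unfold Nat.ModEq at hmod; rw [hmod]
  have hone : Nat.card (Sylow 5 K) = 1 := by
    have hsel : ∀ r : ℕ, r = 3 ∨ r = 9 → ∀ e ∈ Nat.divisors r, e % 5 = 1 → e = 1 := by
      rintro r (rfl | rfl) <;> decide
    refine hsel r hr _ (Nat.mem_divisors.mpr ⟨hdvd, ?_⟩) hmod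
    rcases hr with rfl | rfl <;> norm_num
  have : Subsingleton (Sylow 5 K) := (Nat.card_eq_one_iff_unique.mp hone).1
  have hQn : (Q : Subgroup K).Normal := Q.normal_of_subsingleton
  have hQc : (Q : Subgroup K).Characteristic := Q.characteristic_of_normal hQn
  have hQ'n : ((Q : Subgroup K).map K.subtype).Normal :=
    ConjAct.normal_of_characteristic_of_normal
  have hQ'p : IsPGroup 5 ↥((Q : Subgroup K).map K.subtype) := Q.2.map _
  obtain ⟨S, hS⟩ := hQ'p.exists_le_sylow
  have hScard : Nat.card (S : Subgroup M) = 5 ^ 2 :=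
    card_sylow_of_card_eq_pow 5 2 (2 * r) hM (by rcases hr with rfl | rfl <;> decide) S
  have hQ'card : Nat.card ↥((Q : Subgroup K).map K.subtype) = 5 ^ 2 := by
    rw [Subgroup.card_map_of_injective K.subtype_injective]
    exact hQcard
  have hEq : (Q : Subgroup K).map K.subtype = S :=
    Subgroup.eq_of_le_of_card_ge hS (by rw [hScard, hQ'card])
  have hSn : (S : Subgroup M).Normal := hEq ▸ hQ'n
  have := Sylow.unique_of_normal S hSn
  exact Nat.card_unique

end Cfsg.Agent.Lib.Helper5.Ord
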