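import Mathlib
import Cfsg.Agent.Lib.Helper7.Small2
import Cfsg.Agent.Lib.Helper5.Ord.Ord5880
import Cfsg.Agent.Lib.Helper5.Ord.Tools2

/-!
# There is no simple group of order 5400

`5400 = 2^3 * 3^3 * 5^2`. The number of Sylow 5-subgroups is 36 (216 is excluded by Burnside's
transfer theorem), and `|N(P)| = 150`. Whenever `D = P ∩ R ≠ 1` for Sylow 5-subgroups `P ≠ R`, the
normalizer `M` of `D` has order 300 (the orders 150 and 450 have a normal Sylow 5-subgroup), contains
exactly 6 Sylow 5-subgroups, all of which contain `D`, and `|N(P) ∩ M| = 50`. So `P` has `k ≥ 3`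
such subgroups `D`, and `k ≤ 6`; the `35 - 5 k` Sylow 5-subgroups meeting `P` trivially are permuted
semiregularly by `P`, so `25 ∣ 35 - 5 k`, which is absurd.
-/

set_option autoImplicit false

namespace Cfsg.Agent.Lib.Helper5.Ord

open Cfsg.Agent.Lib.Lead Cfsg.Agent.Lib.Lead.SmallSimple Cfsg.Agent.Lib.Lead.SmallSimple2
  Cfsg.Agent.Lib.Lead.SylowCount Cfsg.Agent.Lib.Lead.PrimeDegree
  Cfsg.Agent.Lib.Helper7.Small
open scoped Pointwise

variable {G : Type*} [Group G] [Finite G]

/-- the number of Sylow subgroups containing `D`, bounded above by the number of Sylow subgroups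
of a subgroup `M` containing all of them -/
theorem ncard_sylow_ge_le {p : ℕ} [Fact p.Prime] (D M : Subgroup G)
    (hM : ∀ S : Sylow p G, D ≤ (S : Subgroup G) → (S : Subgroup G) ≤ M) :
    Set.ncard {S : Sylow p G | D ≤ (S : Subgroup G)} ≤ Nat.card (Sylow p M) := by
  classical
  rw [← Nat.card_coe_set_eq]
  let f : {S : Sylow p G | D ≤ (S : Subgroup G)} → Sylow p M :=
    fun S => S.1.subtype (hM S.1 S.2)
  apply Nat.card_le_card_of_injective f
  intro S T hST
  exact Subtype.ext (Sylow.subtype_injective hST)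

theorem key_5400 [IsSimpleGroup G] (hG : Nat.card G = 5400) (hna : ¬ IsMulCommutative G)
    [Fact (Nat.Prime 5)]
    (hcardSyl : ∀ P : Sylow 5 G, Nat.card (P : Subgroup G) = 5 ^ 2)
    (P R : Sylow 5 G) (hPR : P ≠ R) (hne : (P : Subgroup G) ⊓ (R : Subgroup G) ≠ ⊥) :
    Nat.card ↥((P : Subgroup G) ⊓ (R : Subgroup G)) = 5 ∧
    Nat.card ↥(Subgroup.normalizer ((P : Subgroup G) : Set G) ⊓
      Subgroup.normalizer (((P : Subgroup G) ⊓ (R : Subgroup G) : Subgroup G) : Set G)) = 50 ∧
    Set.ncard {S : Sylow 5 G | (P : Subgroup G) ⊓ (R : Subgroup G) ≤ (S : Subgroup G)} = 6 := by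
  classical
  have hp5 : Nat.Prime 5 := by norm_num
  obtain ⟨D, hD⟩ : ∃ D : Subgroup G, D = (P : Subgroup G) ⊓ (R : Subgroup G) := ⟨_, rfl⟩
  rw [← hD] at hne ⊢
  have hDleP : D ≤ (P : Subgroup G) := by rw [hD]; exact inf_le_left
  have hDleR : D ≤ (R : Subgroup G) := by rw [hD]; exact inf_le_right
  have hcommP : ∀ P : Sylow 5 G, ∀ a ∈ (P : Subgroup G), ∀ b ∈ (P : Subgroup G), a * b = b * a := by
    intro P a ha b hb
    have h5 := IsPGroup.commutative_of_card_eq_prime_sq (p := 5) (G := ↥(P : Subgroup G))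
      (hcardSyl P) ⟨a, ha⟩ ⟨b, hb⟩
    exact congrArg Subtype.val h5
  -- `D` has order 5
  have hDcard5 : Nat.card D = 5 := by
    have hdvd : Nat.card D ∣ 5 ^ 2 := by
      have := Subgroup.card_dvd_of_le hDleP
      rwa [hcardSyl P] at this
    obtain ⟨k, hk, hkD⟩ := (Nat.dvd_prime_pow hp5).mp hdvd
    have hk0 : k ≠ 0 := by
      intro h0
      rw [h0, pow_zero] at hkD
      exact hne (Subgroup.eq_bot_of_card_eq _ hkD)
    have hk2 : k ≠ 2 := by
      intro h2
      rw [h2] at hkD
      have hDP : D = (P : Subgroup G) :=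
        Subgroup.eq_of_le_of_card_ge hDleP (by rw [hkD, hcardSyl P])
      have hPR' : (P : Subgroup G) ≤ (R : Subgroup G) := by rw [← hDP]; exact hDleR
      apply hPR
      apply Sylow.ext
      exact Subgroup.eq_of_le_of_card_ge hPR' (by rw [hcardSyl P, hcardSyl R])
    have hk1 : k = 1 := by omega
    rw [hkD, hk1, pow_one]
  -- every Sylow 5-subgroup containing `D` normalizes `D`
  obtain ⟨M, hMdef⟩ : ∃ M : Subgroup G, M = Subgroup.normalizer (D : Set G) := ⟨_, rfl⟩
  rw [← hMdef]
  have hSM : ∀ S : Sylow 5 G, D ≤ (S : Subgroup G) → (S : Subgroup G) ≤ M := by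
    intro S hDS x hx
    rw [hMdef]
    apply Subgroup.centralizer_le_normalizer
    rw [Subgroup.mem_centralizer_iff]
    intro d hd
    exact hcommP S d (hDS hd) x hx
  have hPM := hSM P hDleP
  have hRM := hSM R hDleR
  have hMtop : M ≠ ⊤ := by
    intro h5
    rw [hMdef] at h5
    have hnor : D.Normal := Subgroup.normalizer_eq_top_iff.mp h5
    rcases hnor.eq_bot_or_eq_top with e | e
    · exact hne e
    · have h6 : Nat.card D = Nat.card G := by rw [e, Subgroup.card_top]
      rw [hDcard5, hG] at h6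
      norm_num at h6
  have hfact := two_mul_card_dvd_factorial_index hna M hMtop
  rw [hG] at hfact
  -- Sylow 5-subgroups of `M`
  have hpa : 5 ^ 2 ∣ Nat.card M := by
    have := Subgroup.card_dvd_of_le hPM
    rwa [hcardSyl P] at this
  obtain ⟨j, hj⟩ := hpa
  have hjpos : 0 < j := by
    rcases Nat.eq_zero_or_pos j with h0 | h0
    · rw [h0, mul_zero] at hj
      exact absurd hj Nat.card_pos.ne'
    · exact h0
  have hPMcard : Nat.card ((P.subtype hPM : Sylow 5 M) : Subgroup M) = 5 ^ 2 := by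
    rw [Sylow.coe_subtype]
    exact (Nat.card_congr (Subgroup.subgroupOfEquivOfLe hPM).toEquiv).trans (hcardSyl P)
  have he_dvd : Nat.card (Sylow 5 M) ∣ j :=
    card_sylow_dvd_of_card (P.subtype hPM) hPMcard hj (by norm_num)
  have he_mod : Nat.card (Sylow 5 M) % 5 = 1 := by
    have hmod := card_sylow_modEq_one 5 M
    unfold Nat.ModEq at hmod; rw [hmod]
  have he_ne : Nat.card (Sylow 5 M) ≠ 1 := by
    intro h5
    have : Subsingleton (Sylow 5 M) := (Nat.card_eq_one_iff_unique.mp h5).1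
    have e : P.subtype hPM = R.subtype hRM := Subsingleton.elim _ _
    exact hPR (Sylow.subtype_injective e)
  have hMk := Subgroup.card_mul_index M
  rw [hj, hG] at hMk
  have hjr : j * M.index = 216 := by
    have h5 : 5 ^ 2 * (j * M.index) = 5 ^ 2 * 216 := by rw [← mul_assoc, hMk]; norm_num
    exact Nat.eq_of_mul_eq_mul_left (by norm_num) h5
  have hj_mem : j ∈ Nat.divisors 216 := Nat.mem_divisors.mpr ⟨Dvd.intro _ hjr, by norm_num⟩
  have he_mem : Nat.card (Sylow 5 M) ∈ Nat.divisors j :=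
    Nat.mem_divisors.mpr ⟨he_dvd, hjpos.ne'⟩
  have hidxM : M.index = 216 / j := by
    rw [← hjr]; exact (Nat.mul_div_cancel_left _ hjpos).symm
  rw [hidxM] at hfact
  have hsel : ∀ j ∈ Nat.divisors 216, ∀ e ∈ Nat.divisors j, e % 5 = 1 → e ≠ 1 →
      2 * 5400 ∣ (216 / j).factorial → (j = 6 ∨ j = 12 ∨ j = 18) ∧ e = 6 := by decide +kernel
  obtain ⟨hj3, he6⟩ := hsel j hj_mem _ he_mem he_mod he_ne hfact
  have hj12 : j = 12 := by
    rcases hj3 with h | h | h
    · exfalso
      have h5 := card_sylow_five_eq_one (M := ↥M) (r := 3) (by rw [hj, h]) (Or.inl rfl)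
      exact he_ne h5
    · exact h
    · exfalso
      have h5 := card_sylow_five_eq_one (M := ↥M) (r := 9) (by rw [hj, h]) (Or.inr rfl)
      exact he_ne h5
  have hMcard : Nat.card M = 300 := by rw [hj, hj12]; norm_num
  -- `N(P) ∩ M` has order 50
  have hNM : Nat.card ↥(Subgroup.normalizer ((P : Subgroup G) : Set G) ⊓ M) = 50 := by
    have h5 : Nat.card (Sylow 5 M) * Nat.card (Subgroup.normalizer
        (((P.subtype hPM : Sylow 5 M) : Subgroup M) : Set M)) = Nat.card M :=
      card_sylow_mul_card_normalizer 5 (P.subtype hPM)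
    rw [he6, hMcard] at h5
    have h6 : Nat.card (Subgroup.normalizer
        (((P.subtype hPM : Sylow 5 M) : Subgroup M) : Set M)) = 50 := by
      clear hfact hsel; omega
    rw [Sylow.coe_subtype, ← Subgroup.subgroupOf_normalizer_eq hPM,
      ← Subgroup.inf_subgroupOf_right] at h6
    rw [← h6]
    exact (Nat.card_congr (Subgroup.subgroupOfEquivOfLe inf_le_right).toEquiv).symm
  refine ⟨hDcard5, hNM, le_antisymm ?_ ?_⟩
  · have h5 := ncard_sylow_ge_le (p := 5) D M hSM
    rw [he6] at h5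
    exact h5
  · have h5 := card_le_mul_ncard_sylow_ge P D M hDleP (by rw [hMdef])
    rw [hMcard, hNM] at h5
    omega

theorem false_of_card_5400 [IsSimpleGroup G] (hG : Nat.card G = 5400) : False := by
  classical
  have hna : ¬ IsMulCommutative G :=
    not_comm_of_even ⟨2700, by rw [hG]⟩ (by rw [hG]; norm_num)
  have hp5 : Nat.Prime 5 := by norm_num
  have : Fact (Nat.Prime 5) := ⟨hp5⟩
  have hG' : Nat.card G = 5 ^ 2 * 216 := by rw [hG]; norm_num
  obtain ⟨h1, h2, h3, h4⟩ := sylow_data (p := 5) (q := 2) hna hG (by norm_num) (by norm_num)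
    (by norm_num) (by norm_num)
  have hcases : ∀ d ∈ Nat.divisors 5400, d % 5 = 1 → d ≠ 1 → 2 * 5400 ∣ d.factorial →
      d = 36 ∨ d = 216 := by decide +kernel
  have hn5 := hcases _ h1 h2 h3 h4
  have hcardSyl : ∀ P : Sylow 5 G, Nat.card (P : Subgroup G) = 5 ^ 2 := fun P =>
    card_sylow_of_card_eq_pow 5 2 216 hG' (by norm_num) P
  have hcommP : ∀ P : Sylow 5 G, ∀ a ∈ (P : Subgroup G), ∀ b ∈ (P : Subgroup G), a * b = b * a := by
    intro P a ha b hb
    have h5 := IsPGroup.commutative_of_card_eq_prime_sq (p := 5) (G := ↥(P : Subgroup G))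
      (hcardSyl P) ⟨a, ha⟩ ⟨b, hb⟩
    exact congrArg Subtype.val h5
  -- the number of Sylow 5-subgroups is 36
  have hn36 : Nat.card (Sylow 5 G) = 36 := by
    rcases hn5 with h | h
    · exact h
    · exfalso
      obtain ⟨P⟩ : Nonempty (Sylow 5 G) := inferInstance
      have hN : Nat.card (Sylow 5 G) *
          Nat.card (Subgroup.normalizer ((P : Subgroup G) : Set G)) = Nat.card G :=
        card_sylow_mul_card_normalizer 5 P
      rw [h, hG] at hN
      have hN25 : Nat.card (Subgroup.normalizer ((P : Subgroup G) : Set G)) = 25 := by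
        clear h4 hcases; omega
      have hPle : (P : Subgroup G) ≤ Subgroup.normalizer ((P : Subgroup G) : Set G) :=
        Subgroup.le_normalizer
      have hEq : (P : Subgroup G) = Subgroup.normalizer ((P : Subgroup G) : Set G) :=
        Subgroup.eq_of_le_of_card_ge hPle (by rw [hN25, hcardSyl P]; norm_num)
      have hle : Subgroup.normalizer ((P : Subgroup G) : Set G) ≤
          Subgroup.centralizer ((P : Subgroup G) : Set G) := by
        rw [← hEq]
        intro x hx
        rw [Subgroup.mem_centralizer_iff]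
        intro y hy
        exact hcommP P y hy x hx
      rcases burnside_simple P hle with h5 | h5
      · rw [hG, hcardSyl P] at h5; norm_num at h5
      · rw [hcardSyl P] at h5; norm_num at h5
  have hcardN : ∀ P : Sylow 5 G,
      Nat.card (Subgroup.normalizer ((P : Subgroup G) : Set G)) = 150 := by
    intro P
    have hN : Nat.card (Sylow 5 G) *
        Nat.card (Subgroup.normalizer ((P : Subgroup G) : Set G)) = Nat.card G :=
      card_sylow_mul_card_normalizer 5 P
    rw [hn36, hG] at hN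
    clear h4 hcases
    omega
  -- two Sylow 5-subgroups meeting in a subgroup of order 5
  have hnp : ¬ Nat.card (Sylow 5 G) ≡ 1 [MOD 5 ^ 2] := by
    rw [hn36]; decide
  obtain ⟨D, P, R, hPR, hD, hDcard, -, -⟩ :=
    big_inter hp5 hG' (by norm_num) (by norm_num) hnp
  have hDcard5 : Nat.card D = 5 := by omega
  have hDleP : D ≤ (P : Subgroup G) := by rw [hD]; exact inf_le_left
  have hne : (P : Subgroup G) ⊓ (R : Subgroup G) ≠ ⊥ := by
    intro h
    rw [← hD] at h
    rw [h, Subgroup.card_bot] at hDcard5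
    norm_num at hDcard5
  have hkey := key_5400 hG hna hcardSyl
  obtain ⟨-, hNM, -⟩ := hkey P R hPR hne
  rw [← hD] at hNM
  -- the Sylow 5-subgroups meeting `P` nontrivially, resp. trivially
  have : Fintype (Sylow 5 G) := Fintype.ofFinite _
  obtain ⟨Y1, hY1⟩ : ∃ Y1 : Finset (Sylow 5 G), Y1 = Finset.univ.filter
    (fun S : Sylow 5 G => S ≠ P ∧ (P : Subgroup G) ⊓ (S : Subgroup G) ≠ ⊥) := ⟨_, rfl⟩
  obtain ⟨Y0, hY0⟩ : ∃ Y0 : Finset (Sylow 5 G), Y0 = Finset.univ.filter
    (fun S : Sylow 5 G => (P : Subgroup G) ⊓ (S : Subgroup G) = ⊥) := ⟨_, rfl⟩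
  have hmemY1 : ∀ S : Sylow 5 G, S ∈ Y1 ↔ S ≠ P ∧ (P : Subgroup G) ⊓ (S : Subgroup G) ≠ ⊥ := by
    intro S; rw [hY1]; simp
  have hmemY0 : ∀ S : Sylow 5 G, S ∈ Y0 ↔ (P : Subgroup G) ⊓ (S : Subgroup G) = ⊥ := by
    intro S; rw [hY0]; simp
  have hPbot : (P : Subgroup G) ≠ ⊥ := by
    intro h
    have h5 := hcardSyl P
    rw [h, Subgroup.card_bot] at h5
    norm_num at h5
  have hsum : Y0.card + (Y1.card + 1) = 36 := by
    have h5 := Finset.card_filter_add_card_filter_not (s := (Finset.univ : Finset (Sylow 5 G)))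
      (fun S : Sylow 5 G => (P : Subgroup G) ⊓ (S : Subgroup G) = ⊥)
    rw [Finset.card_univ, ← Nat.card_eq_fintype_card, hn36, ← hY0] at h5
    have h6 : Finset.univ.filter
        (fun S : Sylow 5 G => ¬ (P : Subgroup G) ⊓ (S : Subgroup G) = ⊥) = insert P Y1 := by
      ext S
      rw [Finset.mem_insert, hmemY1]
      simp only [Finset.mem_filter, Finset.mem_univ, true_and]
      constructor
      · intro h
        by_cases hSP : S = P
        · exact Or.inl hSP
        · exact Or.inr ⟨hSP, h⟩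
      · rintro (rfl | ⟨-, h⟩)
        · rw [inf_idem]; exact hPbot
        · exact h
    have h7 : P ∉ Y1 := by
      rw [hmemY1]; exact fun h => h.1 rfl
    rw [h6, Finset.card_insert_of_notMem h7] at h5
    exact h5
  -- `P` permutes `Y0` semiregularly
  have h25 : 25 ∣ Y0.card := by
    rw [← Set.ncard_coe_finset]
    apply dvd_ncard_of_forall_dvd_card_orbit (H := ↥(P : Subgroup G)) (X := Sylow 5 G)
    · intro h S hS
      rw [Finset.mem_coe, hmemY0] at hS ⊢
      rw [Subgroup.smul_def, Sylow.coe_subgroup_smul, eq_bot_iff]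
      intro x hx
      obtain ⟨hxP, hxS⟩ := Subgroup.mem_inf.mp hx
      rw [mem_conj_smul_iff] at hxS
      have hxP' : (h : G)⁻¹ * x * (h : G) ∈ (P : Subgroup G) :=
        Subgroup.mul_mem _ (Subgroup.mul_mem _ (Subgroup.inv_mem _ h.2) hxP) h.2
      have h5 : (h : G)⁻¹ * x * (h : G) ∈ (P : Subgroup G) ⊓ (S : Subgroup G) := ⟨hxP', hxS⟩
      rw [hS, Subgroup.mem_bot] at h5
      rw [Subgroup.mem_bot]
      have h6 : x = (h : G) * ((h : G)⁻¹ * x * (h : G)) * (h : G)⁻¹ := by group
      rw [h6, h5]; group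
    · intro S hS
      rw [Finset.mem_coe, hmemY0] at hS
      rw [Cfsg.Agent.S0985.card_orbit_sylow]
      have h5 : (S : Subgroup G).subgroupOf (P : Subgroup G) = ⊥ := by
        rw [Subgroup.subgroupOf_eq_bot, disjoint_iff, inf_comm]
        exact hS
      rw [h5, Subgroup.index_bot, hcardSyl P]
      norm_num
  -- the intersections
  obtain ⟨𝓛, h𝓛⟩ : ∃ 𝓛 : Finset (Subgroup G),
    𝓛 = Y1.image (fun S : Sylow 5 G => (P : Subgroup G) ⊓ (S : Subgroup G)) := ⟨_, rfl⟩
  have hfib : ∀ L ∈ 𝓛, (Y1.filter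
      (fun S : Sylow 5 G => (P : Subgroup G) ⊓ (S : Subgroup G) = L)).card = 5 := by
    intro L hL
    rw [h𝓛, Finset.mem_image] at hL
    obtain ⟨S0, hS0, rfl⟩ := hL
    rw [hmemY1] at hS0
    obtain ⟨hL5, -, hL6⟩ := hkey P S0 (Ne.symm hS0.1) hS0.2
    have h5 : (Finset.univ.filter (fun T : Sylow 5 G =>
        (P : Subgroup G) ⊓ (S0 : Subgroup G) ≤ (T : Subgroup G))).card = 6 := by
      rw [← Set.ncard_coe_finset, ← hL6]
      congr 1
      ext T
      simp
    have h6 : Finset.univ.filter (fun T : Sylow 5 G =>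
        (P : Subgroup G) ⊓ (S0 : Subgroup G) ≤ (T : Subgroup G)) =
        insert P (Y1.filter (fun S : Sylow 5 G =>
          (P : Subgroup G) ⊓ (S : Subgroup G) = (P : Subgroup G) ⊓ (S0 : Subgroup G))) := by
      ext T
      simp only [Finset.mem_filter, Finset.mem_univ, true_and, Finset.mem_insert]
      constructor
      · intro hT
        by_cases hTP : T = P
        · exact Or.inl hTP
        · right
          have hle : (P : Subgroup G) ⊓ (S0 : Subgroup G) ≤ (P : Subgroup G) ⊓ (T : Subgroup G) :=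
            le_inf inf_le_left hT
          have hTne : (P : Subgroup G) ⊓ (T : Subgroup G) ≠ ⊥ := by
            intro h
            rw [h, le_bot_iff] at hle
            exact hS0.2 hle
          obtain ⟨hT5, -, -⟩ := hkey P T (Ne.symm hTP) hTne
          refine ⟨(hmemY1 T).mpr ⟨hTP, hTne⟩, ?_⟩
          exact (Subgroup.eq_of_le_of_card_ge hle (by rw [hT5, hL5])).symm
      · rintro (rfl | ⟨-, h⟩)
        · exact inf_le_left
        · rw [← h]; exact inf_le_right
    have h7 : P ∉ Y1.filter (fun S : Sylow 5 G =>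
          (P : Subgroup G) ⊓ (S : Subgroup G) = (P : Subgroup G) ⊓ (S0 : Subgroup G)) := by
      rw [Finset.mem_filter, hmemY1]
      exact fun h => h.1.1 rfl
    rw [h6, Finset.card_insert_of_notMem h7] at h5
    omega
  have hY1card : Y1.card = 𝓛.card * 5 := by
    rw [Finset.card_eq_sum_card_image
      (fun S : Sylow 5 G => (P : Subgroup G) ⊓ (S : Subgroup G)) Y1, ← h𝓛]
    exact Finset.sum_const_nat hfib
  -- at most 6 intersections
  have hle6 : 𝓛.card ≤ 6 := by
    have h5 := card_mul_pred_add_one_le (P : Subgroup G) hp5 𝓛 (by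
      intro L hL
      rw [h𝓛, Finset.mem_image] at hL
      obtain ⟨S0, hS0, rfl⟩ := hL
      rw [hmemY1] at hS0
      obtain ⟨hL5, -, -⟩ := hkey P S0 (Ne.symm hS0.1) hS0.2
      exact ⟨inf_le_left, hL5⟩)
    rw [hcardSyl P] at h5
    omega
  -- at least 3 intersections: the conjugates of `D` under `N(P)`
  have hfibD := card_le_mul_card_image (Subgroup.normalizer ((P : Subgroup G) : Set G))
    (Subgroup.normalizer ((P : Subgroup G) : Set G) ⊓ Subgroup.normalizer (D : Set G))
    (fun n : G => MulAut.conj n • D) (by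
      intro x hx y hy hxy
      have h5 : MulAut.conj (x⁻¹ * y) • D = D := conj_smul_eq_of_eq hxy
      exact ⟨Subgroup.mul_mem _ (Subgroup.inv_mem _ hx) hy,
          mem_normalizer_iff_conj_smul_eq.mpr h5⟩)
  rw [hcardN P, hNM, Nat.card_coe_set_eq] at hfibD
  have h3lt : 2 < Set.ncard ((fun n : G => MulAut.conj n • D) ''
      ((Subgroup.normalizer ((P : Subgroup G) : Set G) : Subgroup G) : Set G)) := by omega
  obtain ⟨D1, D2, D3, hD1, hD2, hD3, h12, h13, h23⟩ :=
    (Set.two_lt_ncard_iff (Set.toFinite _)).mp h3lt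
  have hmem𝓛 : ∀ n ∈ Subgroup.normalizer ((P : Subgroup G) : Set G),
      MulAut.conj n • D ∈ 𝓛 := by
    intro n hn
    have hnP : MulAut.conj n • (P : Subgroup G) = P := mem_normalizer_iff_conj_smul_eq.mp hn
    have h5 : MulAut.conj n • D = (P : Subgroup G) ⊓ ((n • R : Sylow 5 G) : Subgroup G) := by
      rw [Sylow.coe_subgroup_smul, hD, Subgroup.smul_inf, hnP]
    rw [h𝓛, Finset.mem_image]
    refine ⟨n • R, (hmemY1 _).mpr ⟨?_, ?_⟩, h5.symm⟩
    · intro h6
      apply hPR
      have h7 : n • R = n • P := by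
        rw [h6]; exact (Sylow.smul_eq_iff_mem_normalizer.mpr hn).symm
      exact (MulAction.injective n h7).symm
    · rw [← h5]
      intro h6
      have h7 := card_conj_smul D n
      rw [h6, Subgroup.card_bot, hDcard5] at h7
      norm_num at h7
  obtain ⟨n1, hn1, rfl⟩ := hD1
  obtain ⟨n2, hn2, rfl⟩ := hD2
  obtain ⟨n3, hn3, rfl⟩ := hD3
  have hge3 : 3 ≤ 𝓛.card := by
    have h5 : ({MulAut.conj n1 • D, MulAut.conj n2 • D, MulAut.conj n3 • D} :
        Finset (Subgroup G)) ⊆ 𝓛 := by
      intro L hL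
      simp only [Finset.mem_insert, Finset.mem_singleton] at hL
      rcases hL with rfl | rfl | rfl
      · exact hmem𝓛 n1 hn1
      · exact hmem𝓛 n2 hn2
      · exact hmem𝓛 n3 hn3
    have h6 : ({MulAut.conj n1 • D, MulAut.conj n2 • D, MulAut.conj n3 • D} :
        Finset (Subgroup G)).card = 3 :=
      Finset.card_eq_three.mpr ⟨_, _, _, h12, h13, h23, rfl⟩
    rw [← h6]
    exact Finset.card_le_card h5
  obtain ⟨c, hc⟩ := h25
  clear h4 hcases hkey
  omega

end Cfsg.Agent.Lib.Helper5.Ord
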