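import Mathlib
import Cfsg.Agent.Lib.Helper7.Small2
import Cfsg.Agent.Lib.Helper5.Ord.Ord5880

/-!
# There is no simple group of order 5600

`5600 = 2^5 * 5^2 * 7`. The number of Sylow 5-subgroups is 16 or 56, and is not `1` modulo 25: two
Sylow 5-subgroups `P`, `R` meet in a subgroup `D` of order 5 whose normalizer `M` has order 400 and
16 Sylow 5-subgroups, so `N(P) ∩ M = P`. Hence `D` has at least `|N(P)| / 25` conjugates under
`N(P)` inside `P`, each contained in 15 Sylow 5-subgroups other than `P`, and no Sylow 5-subgroup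
other than `P` contains two of them: this gives too many Sylow 5-subgroups.
-/

set_option autoImplicit false

namespace Cfsg.Agent.Lib.Helper5.Ord

open Cfsg.Agent.Lib.Lead Cfsg.Agent.Lib.Lead.SmallSimple Cfsg.Agent.Lib.Lead.SmallSimple2
  Cfsg.Agent.Lib.Lead.SylowCount Cfsg.Agent.Lib.Lead.PrimeDegree
  Cfsg.Agent.Lib.Helper7.Small
open scoped Pointwise

variable {G : Type*} [Group G] [Finite G]

/-- a Sylow subgroup of order `p ^ 2` containing two different subgroups of order `p` of the Sylow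
subgroup `P` is `P` -/
theorem sylow_eq_of_two_lines_le {p : ℕ} [hp : Fact p.Prime]
    (hcardSyl : ∀ P : Sylow p G, Nat.card (P : Subgroup G) = p ^ 2) (P S : Sylow p G)
    (L1 L2 : Subgroup G) (h1 : L1 ≤ (P : Subgroup G)) (h2 : L2 ≤ (P : Subgroup G))
    (c1 : Nat.card L1 = p) (c2 : Nat.card L2 = p) (hne : L1 ≠ L2)
    (hS1 : L1 ≤ (S : Subgroup G)) (hS2 : L2 ≤ (S : Subgroup G)) : S = P := by
  have hXdvd : Nat.card ↥((P : Subgroup G) ⊓ (S : Subgroup G)) ∣ p ^ 2 := by
    have := Subgroup.card_dvd_of_le (inf_le_left : (P : Subgroup G) ⊓ (S : Subgroup G) ≤ P)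
    rwa [hcardSyl P] at this
  obtain ⟨k, hk, hkX⟩ := (Nat.dvd_prime_pow hp.out).mp hXdvd
  have haX : L1 ≤ (P : Subgroup G) ⊓ (S : Subgroup G) := le_inf h1 hS1
  have hbX : L2 ≤ (P : Subgroup G) ⊓ (S : Subgroup G) := le_inf h2 hS2
  have hk2 : k = 2 := by
    by_contra hk2
    have hk1 : k ≤ 1 := by omega
    have hXle : Nat.card ↥((P : Subgroup G) ⊓ (S : Subgroup G)) ≤ p := by
      rw [hkX]
      calc p ^ k ≤ p ^ 1 := Nat.pow_le_pow_right hp.out.pos hk1
        _ = p := pow_one p
    have ea := Subgroup.eq_of_le_of_card_ge haX (by rw [c1]; exact hXle)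
    have eb := Subgroup.eq_of_le_of_card_ge hbX (by rw [c2]; exact hXle)
    exact hne (ea.trans eb.symm)
  rw [hk2] at hkX
  have hXP : (P : Subgroup G) ⊓ (S : Subgroup G) = (P : Subgroup G) :=
    Subgroup.eq_of_le_of_card_ge inf_le_left (by rw [hkX, hcardSyl P])
  have hPS : (P : Subgroup G) ≤ (S : Subgroup G) := by
    rw [← hXP]; exact inf_le_right
  symm
  apply Sylow.ext
  exact Subgroup.eq_of_le_of_card_ge hPS (by rw [hcardSyl P, hcardSyl S])

/-- counting Sylow subgroups through families with pairwise intersection `{P}` -/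
theorem card_mul_add_one_le_card_sylow {p : ℕ} [Fact p.Prime] (P : Sylow p G)
    (𝒟 : Finset (Subgroup G)) (c : ℕ)
    (hc : ∀ L ∈ 𝒟, c ≤ Set.ncard {S : Sylow p G | L ≤ (S : Subgroup G) ∧ S ≠ P})
    (hdisj : ∀ L1 ∈ 𝒟, ∀ L2 ∈ 𝒟, L1 ≠ L2 → ∀ S : Sylow p G,
      L1 ≤ (S : Subgroup G) → L2 ≤ (S : Subgroup G) → S = P) :
    𝒟.card * c + 1 ≤ Nat.card (Sylow p G) := by
  classical
  have : Fintype (Sylow p G) := Fintype.ofFinite _
  let t : Subgroup G → Finset (Sylow p G) := fun L =>
    Finset.univ.filter (fun S : Sylow p G => L ≤ (S : Subgroup G) ∧ S ≠ P)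
  have ht : ∀ L ∈ 𝒟, c ≤ (t L).card := by
    intro L hL
    refine (hc L hL).trans (le_of_eq ?_)
    rw [← Set.ncard_coe_finset]
    congr 1
    ext S
    simp [t]
  have hd : (↑𝒟 : Set (Subgroup G)).PairwiseDisjoint t := by
    intro L1 hL1 L2 hL2 hne
    rw [Function.onFun, Finset.disjoint_left]
    intro S hS1 hS2
    simp only [t, Finset.mem_filter, Finset.mem_univ, true_and] at hS1 hS2
    exact hS1.2 (hdisj L1 hL1 L2 hL2 hne S hS1.1 hS2.1)
  have hsub : 𝒟.biUnion t ⊆ Finset.univ.erase P := by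
    intro S hS
    rw [Finset.mem_biUnion] at hS
    obtain ⟨L, -, hSL⟩ := hS
    simp only [t, Finset.mem_filter, Finset.mem_univ, true_and] at hSL
    exact Finset.mem_erase.mpr ⟨hSL.2, Finset.mem_univ _⟩
  have h5 := Finset.card_le_card hsub
  rw [Finset.card_biUnion hd, Finset.card_erase_of_mem (Finset.mem_univ _), Finset.card_univ,
    ← Nat.card_eq_fintype_card] at h5
  have h6 : 𝒟.card * c ≤ ∑ u ∈ 𝒟, (t u).card := by
    have := Finset.card_nsmul_le_sum 𝒟 (fun u => (t u).card) c ht
    rwa [smul_eq_mul] at this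
  have h7 : 0 < Nat.card (Sylow p G) := Nat.card_pos
  omega

theorem false_of_card_5600 [IsSimpleGroup G] (hG : Nat.card G = 5600) : False := by
  have hna : ¬ IsMulCommutative G :=
    not_comm_of_even ⟨2800, by rw [hG]⟩ (by rw [hG]; norm_num)
  have hp5 : Nat.Prime 5 := by norm_num
  have : Fact (Nat.Prime 5) := ⟨hp5⟩
  have hG' : Nat.card G = 5 ^ 2 * 224 := by rw [hG]; norm_num
  obtain ⟨h1, h2, h3, h4⟩ := sylow_data (p := 5) (q := 2) hna hG (by norm_num) (by norm_num)
    (by norm_num) (by norm_num)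
  have hcases : ∀ d ∈ Nat.divisors 5600, d % 5 = 1 → d ≠ 1 → 2 * 5600 ∣ d.factorial →
      d = 16 ∨ d = 56 := by decide +kernel
  have hn5 := hcases _ h1 h2 h3 h4
  have hcardSyl : ∀ P : Sylow 5 G, Nat.card (P : Subgroup G) = 5 ^ 2 := fun P =>
    card_sylow_of_card_eq_pow 5 2 224 hG' (by norm_num) P
  -- two Sylow 5-subgroups meeting in a subgroup of order 5
  have hnp : ¬ Nat.card (Sylow 5 G) ≡ 1 [MOD 5 ^ 2] := by
    rcases hn5 with h | h <;> rw [h] <;> decide
  obtain ⟨D, P, R, hPR, hD, hDcard, hPM, hRM⟩ :=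
    big_inter hp5 hG' (by norm_num) (by norm_num) hnp
  have hDcard5 : Nat.card D = 5 := by omega
  have hDleP : D ≤ (P : Subgroup G) := by rw [hD]; exact inf_le_left
  have hDleR : D ≤ (R : Subgroup G) := by rw [hD]; exact inf_le_right
  obtain ⟨M, hMdef⟩ : ∃ M : Subgroup G, M = Subgroup.normalizer (D : Set G) := ⟨_, rfl⟩
  rw [← hMdef] at hPM hRM
  have hMtop : M ≠ ⊤ := by
    intro h5
    rw [hMdef] at h5
    have hnor : D.Normal := Subgroup.normalizer_eq_top_iff.mp h5
    rcases hnor.eq_bot_or_eq_top with e | e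
    · rw [e, Subgroup.card_bot] at hDcard5
      norm_num at hDcard5
    · have h6 : Nat.card D = Nat.card G := by rw [e, Subgroup.card_top]
      rw [hDcard5, hG] at h6
      norm_num at h6
  have hfact := two_mul_card_dvd_factorial_index hna M hMtop
  rw [hG] at hfact
  -- Sylow 5-subgroups of `M`
  have hpa : 5 ^ 2 ∣ Nat.card M := by
    have := Subgroup.card_dvd_of_le hPM
    rwa [hcardSyl P] at this
  obtain ⟨j, hj⟩ := hpa
  have hjpos : 0 < j := by
    rcases Nat.eq_zero_or_pos j with h0 | h0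
    · rw [h0, mul_zero] at hj
      exact absurd hj Nat.card_pos.ne'
    · exact h0
  have hPMcard : Nat.card ((P.subtype hPM : Sylow 5 M) : Subgroup M) = 5 ^ 2 := by
    rw [Sylow.coe_subtype]
    exact (Nat.card_congr (Subgroup.subgroupOfEquivOfLe hPM).toEquiv).trans (hcardSyl P)
  have he_dvd : Nat.card (Sylow 5 M) ∣ j :=
    card_sylow_dvd_of_card (P.subtype hPM) hPMcard hj (by norm_num)
  have he_mod : Nat.card (Sylow 5 M) % 5 = 1 := by
    have hmod := card_sylow_modEq_one 5 M
    unfold Nat.ModEq at hmod; rw [hmod]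
  have he_ne : Nat.card (Sylow 5 M) ≠ 1 := by
    intro h5
    have : Subsingleton (Sylow 5 M) := (Nat.card_eq_one_iff_unique.mp h5).1
    have e : P.subtype hPM = R.subtype hRM := Subsingleton.elim _ _
    exact hPR (Sylow.subtype_injective e)
  have hMk := Subgroup.card_mul_index M
  rw [hj, hG] at hMk
  have hjr : j * M.index = 224 := by
    have h5 : 5 ^ 2 * (j * M.index) = 5 ^ 2 * 224 := by rw [← mul_assoc, hMk]; norm_num
    exact Nat.eq_of_mul_eq_mul_left (by norm_num) h5
  have hj_mem : j ∈ Nat.divisors 224 := Nat.mem_divisors.mpr ⟨Dvd.intro _ hjr, by norm_num⟩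
  have he_mem : Nat.card (Sylow 5 M) ∈ Nat.divisors j :=
    Nat.mem_divisors.mpr ⟨he_dvd, hjpos.ne'⟩
  have hidxM : M.index = 224 / j := by
    rw [← hjr]; exact (Nat.mul_div_cancel_left _ hjpos).symm
  rw [hidxM] at hfact
  have hsel : ∀ j ∈ Nat.divisors 224, ∀ e ∈ Nat.divisors j, e % 5 = 1 → e ≠ 1 →
      2 * 5600 ∣ (224 / j).factorial → j = 16 ∧ e = 16 := by decide +kernel
  obtain ⟨hj16, he16⟩ := hsel j hj_mem _ he_mem he_mod he_ne hfact
  have hMcard : Nat.card M = 400 := by rw [hj, hj16]; norm_num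
  -- `N(P) ∩ M = P`
  have hNM : Nat.card ↥(Subgroup.normalizer ((P : Subgroup G) : Set G) ⊓ M) = 25 := by
    have h5 : Nat.card (Sylow 5 M) * Nat.card (Subgroup.normalizer
        (((P.subtype hPM : Sylow 5 M) : Subgroup M) : Set M)) = Nat.card M :=
      card_sylow_mul_card_normalizer 5 (P.subtype hPM)
    rw [he16, hMcard] at h5
    have h6 : Nat.card (Subgroup.normalizer
        (((P.subtype hPM : Sylow 5 M) : Subgroup M) : Set M)) = 25 := by
      clear hfact h4 hcases hsel; omega
    rw [Sylow.coe_subtype, ← Subgroup.subgroupOf_normalizer_eq hPM,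
      ← Subgroup.inf_subgroupOf_right] at h6
    rw [← h6]
    exact (Nat.card_congr (Subgroup.subgroupOfEquivOfLe inf_le_right).toEquiv).symm
  have hNMeq : Subgroup.normalizer ((P : Subgroup G) : Set G) ⊓ M = (P : Subgroup G) := by
    symm
    apply Subgroup.eq_of_le_of_card_ge (le_inf Subgroup.le_normalizer hPM)
    rw [hNM, hcardSyl P]; norm_num
  -- at least 16 Sylow 5-subgroups contain `D`
  have h16 : 16 ≤ Set.ncard {S : Sylow 5 G | D ≤ (S : Subgroup G)} := by
    have h5 := card_le_mul_ncard_sylow_ge P D M hDleP (by rw [hMdef])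
    rw [hMcard, hNM] at h5
    omega
  -- hence at least 15 of them besides `P`
  have h15 : ∀ n ∈ Subgroup.normalizer ((P : Subgroup G) : Set G),
      15 ≤ Set.ncard {S : Sylow 5 G | MulAut.conj n • D ≤ (S : Subgroup G) ∧ S ≠ P} := by
    intro n hn
    have hnP : n • P = P := Sylow.smul_eq_iff_mem_normalizer.mpr hn
    have h5 : 15 ≤ Set.ncard ({S : Sylow 5 G | D ≤ (S : Subgroup G)} \ {P}) := by
      have h6 := Set.ncard_sdiff_singleton_add_one (s := {S : Sylow 5 G | D ≤ (S : Subgroup G)})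
        (a := P) hDleP (Set.toFinite _)
      omega
    refine h5.trans ?_
    have h6 : Set.ncard ((fun S : Sylow 5 G => n • S) ''
        ({S : Sylow 5 G | D ≤ (S : Subgroup G)} \ {P})) =
        Set.ncard ({S : Sylow 5 G | D ≤ (S : Subgroup G)} \ {P}) :=
      Set.ncard_image_of_injective _ (MulAction.injective n)
    rw [← h6]
    apply Set.ncard_le_ncard _ (Set.toFinite _)
    rintro S ⟨S0, ⟨hS0, hS0P⟩, rfl⟩
    refine ⟨?_, ?_⟩
    · show MulAut.conj n • D ≤ ((n • S0 : Sylow 5 G) : Subgroup G)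
      rw [Sylow.coe_subgroup_smul]
      exact conj_smul_mono hS0 n
    · intro h9
      apply hS0P
      rw [Set.mem_singleton_iff]
      have h10 : n • S0 = n • P := by rw [hnP]; exact h9
      exact MulAction.injective n h10
  -- the conjugates of `D` under `N(P)`
  have hfibD := card_le_mul_card_image (Subgroup.normalizer ((P : Subgroup G) : Set G))
    (P : Subgroup G) (fun n : G => MulAut.conj n • D) (by
      intro x hx y hy hxy
      have h5 : MulAut.conj (x⁻¹ * y) • D = D := conj_smul_eq_of_eq hxy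
      have h6 : x⁻¹ * y ∈ Subgroup.normalizer ((P : Subgroup G) : Set G) ⊓ M :=
        ⟨Subgroup.mul_mem _ (Subgroup.inv_mem _ hx) hy,
          by rw [hMdef]; exact mem_normalizer_iff_conj_smul_eq.mpr h5⟩
      rw [hNMeq] at h6
      exact h6)
  rw [hcardSyl P, Nat.card_coe_set_eq,
    Set.ncard_eq_toFinset_card _ (Set.toFinite _)] at hfibD
  have hcount := card_mul_add_one_le_card_sylow P (Set.toFinite ((fun n : G => MulAut.conj n • D) ''
      ((Subgroup.normalizer ((P : Subgroup G) : Set G) : Subgroup G) : Set G))).toFinset 15 (by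
      intro L hL
      rw [Set.Finite.mem_toFinset] at hL
      obtain ⟨n, hn, rfl⟩ := hL
      exact h15 n hn) (by
      intro L1 hL1 L2 hL2 hne S hS1 hS2
      rw [Set.Finite.mem_toFinset] at hL1 hL2
      obtain ⟨a, ha, rfl⟩ := hL1
      obtain ⟨b, hb, rfl⟩ := hL2
      have haP : MulAut.conj a • D ≤ (P : Subgroup G) := by
        have h5 : MulAut.conj a • (P : Subgroup G) = P := mem_normalizer_iff_conj_smul_eq.mp ha
        calc MulAut.conj a • D ≤ MulAut.conj a • (P : Subgroup G) := conj_smul_mono hDleP a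
          _ = P := h5
      have hbP : MulAut.conj b • D ≤ (P : Subgroup G) := by
        have h5 : MulAut.conj b • (P : Subgroup G) = P := mem_normalizer_iff_conj_smul_eq.mp hb
        calc MulAut.conj b • D ≤ MulAut.conj b • (P : Subgroup G) := conj_smul_mono hDleP b
          _ = P := h5
      exact sylow_eq_of_two_lines_le hcardSyl P S _ _ haP hbP
        (by rw [card_conj_smul, hDcard5]) (by rw [card_conj_smul, hDcard5]) hne hS1 hS2)
  have hN : Nat.card (Sylow 5 G) *
      Nat.card (Subgroup.normalizer ((P : Subgroup G) : Set G)) = Nat.card G :=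
    card_sylow_mul_card_normalizer 5 P
  rw [hG] at hN
  clear h4 hcases hfact hsel
  rcases hn5 with h | h
  · rw [h] at hN hcount
    have h5 : Nat.card (Subgroup.normalizer ((P : Subgroup G) : Set G)) = 350 := by omega
    rw [h5] at hfibD
    omega
  · rw [h] at hN hcount
    have h5 : Nat.card (Subgroup.normalizer ((P : Subgroup G) : Set G)) = 100 := by omega
    rw [h5] at hfibD
    omega

end Cfsg.Agent.Lib.Helper5.Ord
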